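import Cfsg.Agent.H940.MaxCls
import Cfsg.Agent.SporadicStructure.M24El

/-!
# Tools for the rows `M11`, `M12` of S5906/S5907: transitivity from trees, orbit patterns, suborbits
-/

set_option autoImplicit false

namespace Cfsg.Agent.H865.Sep

open Subgroup Cfsg.Agent.H940.MaxCls

/-! ### Trees -/

/-- the tree check: element `j + 1` of `L` is the image of an earlier one -/
def treeB (act : ℕ → ℕ → ℕ) (gens L : List ℕ) (tr : List (ℕ × ℕ)) : Bool :=
  Nat.beq (tr.length + 1) L.length && (List.range tr.length).all fun j =>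
    Nat.ble (tr.getD j (0, 0)).2 j && Nat.blt (tr.getD j (0, 0)).1 gens.length &&
      Nat.beq (act (gens.getD (tr.getD j (0, 0)).1 0) (L.getD (tr.getD j (0, 0)).2 0)) (L.getD (j + 1) 0)

variable {G Ω : Type*} [Group G] [MulAction G Ω]

/-- `A` is transitive on the set `S` -/
def Tr (A : Subgroup G) (S : Set Ω) : Prop := ∀ x ∈ S, ∀ y ∈ S, ∃ a ∈ A, a • x = y

theorem tr_of_tree {act : ℕ → ℕ → ℕ} {emb : ℕ → Ω} {A : Subgroup G} {gens L : List ℕ} {tr : List (ℕ × ℕ)}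
    (hg : ∀ P ∈ gens, ∃ a ∈ A, ∀ m ∈ L, a • emb m = emb (act P m)) (h : treeB act gens L tr = true) :
    Tr A {x | ∃ m ∈ L, emb m = x} := by
  unfold treeB at h
  rw [Bool.and_eq_true, List.all_eq_true] at h
  obtain ⟨hl, h⟩ := h
  have hl' : tr.length + 1 = L.length := Nat.eq_of_beq_eq_true hl
  have key : ∀ j < L.length, ∃ a ∈ A, a • emb (L.getD 0 0) = emb (L.getD j 0) := by
    intro j
    induction j using Nat.strong_induction_on with
    | _ j ih =>
      intro hj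
      rcases j with _ | j
      · exact ⟨1, A.one_mem, one_smul _ _⟩
      · have h1 := h j (List.mem_range.2 (by omega))
        rw [Bool.and_eq_true, Bool.and_eq_true, Nat.ble_eq, Nat.blt_eq] at h1
        obtain ⟨⟨h1, h2⟩, h3⟩ := h1
        have h3' := Nat.eq_of_beq_eq_true h3
        obtain ⟨b, hb, hb2⟩ := ih _ (Nat.lt_succ_of_le h1) (by omega)
        obtain ⟨a, ha, ha2⟩ := hg (gens.getD (tr.getD j (0, 0)).1 0) (by
          rw [List.getD_eq_getElem _ _ h2]
          exact List.getElem_mem h2)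
        refine ⟨a * b, A.mul_mem ha hb, ?_⟩
        rw [mul_smul, hb2, ha2 _ (by
          rw [List.getD_eq_getElem _ _ (by omega)]
          exact List.getElem_mem _), h3']
  have hidx : ∀ m ∈ L, ∃ j < L.length, L.getD j 0 = m := by
    intro m hm
    obtain ⟨j, hj, hjm⟩ := List.mem_iff_getElem.1 hm
    exact ⟨j, hj, by rw [List.getD_eq_getElem _ _ hj]; exact hjm⟩
  rintro _ ⟨m, hm, rfl⟩ _ ⟨n, hn, rfl⟩
  obtain ⟨i, hi, rfl⟩ := hidx m hm
  obtain ⟨j, hj, rfl⟩ := hidx n hn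
  obtain ⟨a, ha, ha2⟩ := key i hi
  obtain ⟨b, hb, hb2⟩ := key j hj
  refine ⟨b * a⁻¹, A.mul_mem hb (A.inv_mem ha), ?_⟩
  rw [mul_smul, ← ha2, inv_smul_smul, hb2]

theorem Tr.mono {A B : Subgroup G} {S : Set Ω} (h : Tr A S) (hAB : A ≤ B) : Tr B S := fun x hx y hy => by
  obtain ⟨a, ha, h1⟩ := h x hx y hy
  exact ⟨a, hAB ha, h1⟩

/-- the number of points divides the order of a transitive group -/
theorem Tr.card_dvd [Finite G] {A : Subgroup G} {S : Set Ω} (h : Tr A S) (hS : S.Nonempty)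
    (hinv : ∀ a ∈ A, ∀ x ∈ S, a • x ∈ S) : S.ncard ∣ Nat.card A := by
  obtain ⟨x, hx⟩ := hS
  have h1 : MulAction.orbit A x = S := by
    ext y
    constructor
    · rintro ⟨a, rfl⟩
      exact hinv a a.2 x hx
    · intro hy
      obtain ⟨a, ha, h2⟩ := h x hx y hy
      exact ⟨⟨a, ha⟩, h2⟩
  rw [← h1, ← MulAction.index_stabilizer]
  exact Subgroup.index_dvd_card _

/-! ### Orbit patterns -/

/-- `A` has the two orbits `S` and `O \ S` -/
structure Pat (O : Set Ω) (A : Subgroup G) (S : Set Ω) : Prop where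
  sub : S ⊆ O
  ne : S.Nonempty
  ne' : (O \ S).Nonempty
  tr : Tr A S
  tr' : Tr A (O \ S)

/-- a group containing two groups with different patterns is transitive -/
theorem trans_of_pat {O S T : Set Ω} (hO : O.Finite) (hinv : ∀ (g : G), ∀ x ∈ O, g • x ∈ O) {A B K : Subgroup G} {g : G}
    (hA : Pat O A S) (hB : Pat O B T) (hAK : A ≤ K) (hBK : ∀ x ∈ B, g * x * g⁻¹ ∈ K) (h1 : S.ncard ≠ T.ncard)
    (h2 : S.ncard + T.ncard ≠ O.ncard) : Tr K O := by
  by_contra hK
  -- `K` preserves `S`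
  have hno : ∀ k ∈ K, ∀ x ∈ O, (x ∈ S ↔ k • x ∈ S) := by
    have key : ∀ k ∈ K, ∀ x ∈ S, k • x ∈ S := by
      intro k hk x hx
      by_contra hkx
      apply hK
      have hkO : k • x ∈ O \ S := ⟨hinv k x (hA.sub hx), hkx⟩
      have h3 : ∀ y ∈ O, ∃ a ∈ K, a • x = y := by
        intro y hy
        by_cases hyS : y ∈ S
        · obtain ⟨a, ha, h4⟩ := hA.tr x hx y hyS
          exact ⟨a, hAK ha, h4⟩
        · obtain ⟨a, ha, h4⟩ := hA.tr' _ hkO y ⟨hy, hyS⟩
          exact ⟨a * k, K.mul_mem (hAK ha) hk, by rw [mul_smul, h4]⟩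
      intro y hy z hz
      obtain ⟨a, ha, h4⟩ := h3 y hy
      obtain ⟨b, hb, h5⟩ := h3 z hz
      exact ⟨b * a⁻¹, K.mul_mem hb (K.inv_mem ha), by rw [mul_smul, ← h4, inv_smul_smul, h5]⟩
    intro k hk x _
    refine ⟨key k hk x, fun h3 => ?_⟩
    have h4 := key k⁻¹ (K.inv_mem hk) _ h3
    rwa [inv_smul_smul] at h4
  -- the conjugate pattern
  have hT : ∀ x ∈ O, ∀ y ∈ O, (g⁻¹ • x ∈ T ↔ g⁻¹ • y ∈ T) → (x ∈ S ↔ y ∈ S) := by
    intro x hx y hy hxy
    have h3 : ∃ b ∈ B, b • (g⁻¹ • x) = g⁻¹ • y := by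
      by_cases hxT : g⁻¹ • x ∈ T
      · exact hB.tr _ hxT _ (hxy.1 hxT)
      · exact hB.tr' _ ⟨hinv _ _ hx, hxT⟩ _ ⟨hinv _ _ hy, fun h => hxT (hxy.2 h)⟩
    obtain ⟨b, hb, h4⟩ := h3
    have h5 : (g * b * g⁻¹) • x = y := by
      rw [mul_smul, mul_smul, h4, smul_inv_smul]
    rw [← h5]
    exact hno _ (hBK b hb) x hx
  set T' : Set Ω := {x | g⁻¹ • x ∈ T} with hT'
  have hT'c : T'.ncard = T.ncard := by
    have h3 : T' = (fun x => g • x) '' T := by
      ext x
      constructor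
      · intro hx
        exact ⟨g⁻¹ • x, hx, smul_inv_smul g x⟩
      · rintro ⟨y, hy, rfl⟩
        show g⁻¹ • g • y ∈ T
        rwa [inv_smul_smul]
    rw [h3, Set.ncard_image_of_injective _ (MulAction.injective g)]
  have hT'O : T' ⊆ O := by
    intro x hx
    have h3 := hinv g _ (hB.sub hx)
    rwa [smul_inv_smul] at h3
  obtain ⟨t, ht⟩ := hB.ne
  have ht' : g • t ∈ T' := by
    show g⁻¹ • g • t ∈ T
    rwa [inv_smul_smul]
  obtain ⟨s, hs⟩ := hA.ne
  obtain ⟨s', hs', hs'S⟩ := hA.ne'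
  by_cases htS : g • t ∈ S
  · -- then `T' = S`
    have h3 : T' = S := by
      ext x
      constructor
      · intro hx
        exact (hT x (hT'O hx) _ (hT'O ht') ⟨fun _ => ht', fun _ => hx⟩).2 htS
      · intro hx
        by_contra hxT
        have h4 : s' ∉ T' := fun h5 => hs'S ((hT s' hs' _ (hT'O ht') ⟨fun _ => ht', fun _ => h5⟩).2 htS)
        exact hs'S ((hT s' hs' x (hA.sub hx) ⟨fun h5 => absurd h5 h4, fun h5 => absurd h5 hxT⟩).2 hx)
    exact h1 (by rw [← h3, hT'c])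
  · -- then `T' = O \ S`
    have h3 : T' = O \ S := by
      ext x
      constructor
      · intro hx
        exact ⟨hT'O hx, fun hxS => htS ((hT _ (hT'O ht') x (hT'O hx) ⟨fun _ => hx, fun _ => ht'⟩).2 hxS)⟩
      · rintro ⟨hx, hxS⟩
        by_contra hxT
        have h4 : s ∉ T' := fun h5 => htS ((hT _ (hT'O ht') s (hA.sub hs) ⟨fun _ => h5, fun _ => ht'⟩).2 hs)
        exact hxS ((hT x hx s (hA.sub hs) ⟨fun h5 => absurd h5 hxT, fun h5 => absurd h5 h4⟩).2 hs)
    apply h2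
    have h4 := Set.ncard_sdiff_add_ncard_of_subset hA.sub hO
    rw [← h3, hT'c] at h4
    omega

/-! ### Orders -/

/-- a subgroup of index smaller than a prime dividing the order of a simple group -/
theorem eq_top_of_lt [Finite G] [IsSimpleGroup G] {p : ℕ} (hp : p.Prime) (hpG : p ∣ Nat.card G) {K : Subgroup G}
    (h : Nat.card G < p * Nat.card K) : K = ⊤ := by
  by_contra hK
  have h1 := card_dvd_factorial hK
  have h2 := (hp.dvd_factorial).1 (hpG.trans h1)
  have h3 := Subgroup.card_mul_index K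
  have h4 : p * Nat.card K ≤ Nat.card K * K.index := by
    rw [mul_comm p]
    exact Nat.mul_le_mul_left _ h2
  omega

theorem dvd_of_conj [Finite G] {B K : Subgroup G} {g : G} (h : ∀ x ∈ B, g * x * g⁻¹ ∈ K) :
    Nat.card B ∣ Nat.card K := by
  rw [← card_map_conj g B]
  exact Subgroup.card_dvd_of_le (map_conj_le h)

/-- apart by orders -/
theorem apart_of_lcm [Finite G] [IsSimpleGroup G] {p n a b : ℕ} (hp : p.Prime) (hn : Nat.card G = n) (hpn : p ∣ n)
    {A B : Subgroup G} (ha : a ∣ Nat.card A) (hb : b ∣ Nat.card B) (h : n < p * Nat.lcm a b) : Apart A B := by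
  intro g K h1 h2
  apply eq_top_of_lt hp (hn ▸ hpn)
  rw [hn]
  refine lt_of_lt_of_le h (Nat.mul_le_mul_left _ (Nat.le_of_dvd Nat.card_pos ?_))
  exact Nat.lcm_dvd (ha.trans (Subgroup.card_dvd_of_le h1)) (hb.trans (dvd_of_conj h2))

/-- apart by patterns and orders -/
theorem apart_of_pat [Finite G] [IsSimpleGroup G] {p n a b o s t : ℕ} (hp : p.Prime) (hn : Nat.card G = n)
    (hpn : p ∣ n) {O S T : Set Ω} (hO : O.Finite) (hinv : ∀ (g : G), ∀ x ∈ O, g • x ∈ O) {A B : Subgroup G}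
    (hA : Pat O A S) (hB : Pat O B T) (ho : O.ncard = o) (hs : S.ncard = s) (ht : T.ncard = t) (hst : s ≠ t)
    (hst' : s + t ≠ o) (ha : a ∣ Nat.card A) (hb : b ∣ Nat.card B) (h : n < p * Nat.lcm o (Nat.lcm a b)) :
    Apart A B := by
  intro g K h1 h2
  apply eq_top_of_lt hp (hn ▸ hpn)
  rw [hn]
  refine lt_of_lt_of_le h (Nat.mul_le_mul_left _ (Nat.le_of_dvd Nat.card_pos ?_))
  refine Nat.lcm_dvd ?_ (Nat.lcm_dvd (ha.trans (Subgroup.card_dvd_of_le h1)) (hb.trans (dvd_of_conj h2)))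
  rw [← ho]
  refine (trans_of_pat hO hinv hA hB h1 h2 (by rw [hs, ht]; exact hst) (by rw [hs, ht, ho]; exact hst')).card_dvd
    ⟨_, hA.sub hA.ne.some_mem⟩ fun a _ x hx => hinv a x hx

/-- the size of a set given by a list -/
theorem ncard_list {emb : ℕ → Ω} {L : List ℕ} (hL : L.Nodup) (hinj : ∀ i ∈ L, ∀ j ∈ L, emb i = emb j → i = j) :
    {x | ∃ m ∈ L, emb m = x}.ncard = L.length := by
  classical
  have h1 : {x | ∃ m ∈ L, emb m = x} = ((L.toFinset.image emb : Finset Ω) : Set Ω) := by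
    ext x
    simp
  rw [h1, Set.ncard_coe_finset, Finset.card_image_of_injOn, List.toFinset_card_of_nodup hL]
  intro i hi j hj hij
  exact hinj i (by simpa using hi) j (by simpa using hj) hij

/-- the orbit lengths divide the order -/
theorem Pat.dvd [Finite G] {O S : Set Ω} {A : Subgroup G} (h : Pat O A S) (hinv : ∀ (g : G), ∀ x ∈ O, g • x ∈ O)
    (hS : ∀ a ∈ A, ∀ x ∈ S, a • x ∈ S) : S.ncard ∣ Nat.card A ∧ (O \ S).ncard ∣ Nat.card A := by
  refine ⟨h.tr.card_dvd h.ne hS, h.tr'.card_dvd h.ne' fun a ha x hx => ⟨hinv a x hx.1, fun h1 => hx.2 ?_⟩⟩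
  have h2 := hS a⁻¹ (A.inv_mem ha) _ h1
  rwa [inv_smul_smul] at h2

end Cfsg.Agent.H865.Sep
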