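import Cfsg.Agent.H865.Sep.Base

/-!
# Tools for the rows `M11`, `M12` of S5906/S5907: dihedral subgroups, suborbits and maximality
-/

set_option autoImplicit false

open scoped Pointwise

namespace Cfsg.Agent.H865.Sep

open Subgroup Cfsg.Agent.H940.MaxCls

/-! ### The dihedral group of order 8 -/

section dih

variable {G : Type*} [Group G]

/-- the group generated by `u` and an involution inverting it -/
def dih (u v : G) (hn : v * u = u⁻¹ * v) (hv : v * v = 1) : Subgroup G where
  carrier := {x | x ∈ zpowers u ∨ x * v ∈ zpowers u}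
  one_mem' := Or.inl (one_mem _)
  mul_mem' := by
    have hv' : v⁻¹ = v := inv_eq_of_mul_eq_one_left hv
    have hc : ∀ x ∈ zpowers u, v * x * v ∈ zpowers u := by
      rintro _ ⟨k, rfl⟩
      have h1 : v * u * v⁻¹ = u⁻¹ := by rw [hn]; group
      have h2 : v * u ^ k * v⁻¹ = (u⁻¹) ^ k := by rw [← h1, conj_zpow]
      rw [hv'] at h2
      show v * u ^ k * v ∈ _
      rw [h2]
      exact zpow_mem (inv_mem (mem_zpowers u)) k
    rintro a b (ha | ha) (hb | hb)
    · exact Or.inl (mul_mem ha hb)
    · exact Or.inr (by rw [mul_assoc]; exact mul_mem ha hb)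
    · refine Or.inr ?_
      have : a * b * v = a * v * (v * b * v) := by
        calc a * b * v = a * (v * v) * b * v := by rw [hv, mul_one]
          _ = _ := by group
      rw [this]
      exact mul_mem ha (hc b hb)
    · refine Or.inl ?_
      have : a * b = a * v * (v * (b * v) * v) := by
        calc a * b = a * (v * v) * b * (v * v) := by rw [hv, mul_one, mul_one]
          _ = _ := by group
      rw [this]
      exact mul_mem ha (hc _ hb)
  inv_mem' := by
    have hv' : v⁻¹ = v := inv_eq_of_mul_eq_one_left hv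
    have hc : ∀ x ∈ zpowers u, v * x * v ∈ zpowers u := by
      rintro _ ⟨k, rfl⟩
      have h1 : v * u * v⁻¹ = u⁻¹ := by rw [hn]; group
      have h2 : v * u ^ k * v⁻¹ = (u⁻¹) ^ k := by rw [← h1, conj_zpow]
      rw [hv'] at h2
      show v * u ^ k * v ∈ _
      rw [h2]
      exact zpow_mem (inv_mem (mem_zpowers u)) k
    rintro a (ha | ha)
    · exact Or.inl (inv_mem ha)
    · refine Or.inr ?_
      have h1 := hc _ (inv_mem ha)
      have h2 : v * (a * v)⁻¹ * v = a⁻¹ * v := by
        rw [mul_inv_rev, hv']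
        calc v * (v * a⁻¹) * v = (v * v) * a⁻¹ * v := by group
          _ = _ := by rw [hv, one_mul]
      rwa [h2] at h1

theorem eight_dvd [Finite G] {A : Subgroup G} {u v : G} (hu : u ∈ A) (hv : v ∈ A) (h4 : orderOf u = 4)
    (hn : v * u = u⁻¹ * v) (hv2 : v * v = 1) (hvu : v ∉ zpowers u) : 8 ∣ Nat.card A := by
  have hK : zpowers u ≤ dih u v hn hv2 := fun x hx => Or.inl hx
  have hD : dih u v hn hv2 ≤ A := by
    have h1 : zpowers u ≤ A := zpowers_le.2 hu
    rintro x (hx | hx)
    · exact h1 hx
    · have := A.mul_mem (h1 hx) hv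
      rwa [mul_assoc, hv2, mul_one] at this
  have hi : (zpowers u).relIndex (dih u v hn hv2) = 2 := by
    unfold Subgroup.relIndex
    rw [Subgroup.index_eq_two_iff]
    have hvD : v ∈ dih u v hn hv2 := Or.inr (by rw [hv2]; exact one_mem _)
    refine ⟨⟨v, hvD⟩, ?_⟩
    rintro ⟨b, hb⟩
    simp only [mem_subgroupOf, Subgroup.coe_mul]
    rcases hb with hb | hb
    · refine Or.inr ⟨hb, fun h => hvu ?_⟩
      have := (zpowers u).mul_mem ((zpowers u).inv_mem hb) h
      rwa [inv_mul_cancel_left] at this
    · refine Or.inl ⟨hb, fun h => hvu ?_⟩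
      have := (zpowers u).mul_mem ((zpowers u).inv_mem h) hb
      rwa [inv_mul_cancel_left] at this
  have h1 := Subgroup.relIndex_mul_relIndex ⊥ (zpowers u) (dih u v hn hv2) bot_le hK
  rw [relIndex_bot_left, relIndex_bot_left, hi, Nat.card_zpowers, h4] at h1
  have h2 := Subgroup.card_dvd_of_le hD
  rwa [← h1] at h2

end dih

/-! ### Suborbits and maximality -/

/-- the partial sums -/
def sums : List ℕ → List ℕ
  | [] => [0]
  | a :: l => sums l ++ (sums l).map (a + ·)

theorem mem_sums {α : Type*} {c f : α → ℕ} : ∀ {Ls : List α}, (∀ L ∈ Ls, c L = 0 ∨ c L = f L) →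
    (Ls.map c).sum ∈ sums (Ls.map f)
  | [], _ => by simp [sums]
  | L :: Ls, h => by
    have ih := mem_sums (Ls := Ls) fun L hL => h L (List.mem_cons_of_mem _ hL)
    rw [List.map_cons, List.map_cons, List.sum_cons, sums, List.mem_append, List.mem_map]
    rcases h L List.mem_cons_self with h1 | h1
    · left
      rw [h1, zero_add]
      exact ih
    · right
      exact ⟨_, ih, by rw [h1]⟩

/-- the check of the suborbit lengths: no proper partial sum divides the number of points -/
def chkS (n : ℕ) (l : List ℕ) : Bool :=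
  (sums l).all fun s => Nat.beq s 0 || Nat.beq (s + 1) n || !(Nat.beq (n % (s + 1)) 0)

section coatom

variable {G Ω : Type*} [Group G] [MulAction G Ω]

theorem index_of_tr [Finite G] {S : Set Ω} (hinv : ∀ (g : G), ∀ x ∈ S, g • x ∈ S) (h : Tr (⊤ : Subgroup G) S) {x : Ω}
    (hx : x ∈ S) : (MulAction.stabilizer G x).index = S.ncard := by
  have h1 : MulAction.orbit G x = S := by
    ext y
    constructor
    · rintro ⟨a, rfl⟩
      exact hinv a x hx
    · intro hy
      obtain ⟨a, -, h2⟩ := h x hx y hy
      exact ⟨a, h2⟩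
  rw [MulAction.index_stabilizer, h1]

theorem ncard_orbit_le {x : Ω} {K : Subgroup G} : (MulAction.orbit K x).ncard =
    (MulAction.stabilizer G x).relIndex K := by
  rw [← MulAction.index_stabilizer]
  rfl

theorem coatom_of_suborbits [Finite G] {S : Set Ω} (hinv : ∀ (g : G), ∀ x ∈ S, g • x ∈ S)
    (htr : Tr (⊤ : Subgroup G) S) {emb : ℕ → Ω} {m0 : ℕ} {Ls : List (List ℕ)}
    (hS : S = {y | ∃ m ∈ m0 :: Ls.flatten, emb m = y}) (hnd : (m0 :: Ls.flatten).Nodup)
    (hinj : ∀ i ∈ m0 :: Ls.flatten, ∀ j ∈ m0 :: Ls.flatten, emb i = emb j → i = j)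
    (hTr : ∀ L ∈ Ls, Tr (MulAction.stabilizer G (emb m0)) {y | ∃ m ∈ L, emb m = y})
    (hsum : chkS (1 + (Ls.map List.length).sum) (Ls.map List.length) = true)
    (hone : (Ls.map List.length).sum ≠ 0) : IsCoatom (MulAction.stabilizer G (emb m0)) := by
  classical
  have hx : emb m0 ∈ S := by
    rw [hS]
    exact ⟨m0, List.mem_cons_self, rfl⟩
  have hcard : S.ncard = 1 + (Ls.map List.length).sum := by
    rw [hS, ncard_list hnd hinj, List.length_cons, List.length_flatten, add_comm]
  have hidx := index_of_tr hinv htr hx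
  refine ⟨fun h => ?_, fun K hK => ?_⟩
  · rw [h, index_top, hcard] at hidx
    omega
  · obtain ⟨Q, hQ⟩ : ∃ Q, Q = MulAction.orbit K (emb m0) := ⟨_, rfl⟩
    have hQS : Q ⊆ S := by
      rw [hQ]
      rintro _ ⟨k, rfl⟩
      exact hinv k _ hx
    have hxQ : emb m0 ∈ Q := by
      rw [hQ]
      exact MulAction.mem_orbit_self _
    -- each suborbit is inside or outside
    have hin : ∀ L ∈ Ls, (L.filter fun m => decide (emb m ∈ Q)).length = 0 ∨
        (L.filter fun m => decide (emb m ∈ Q)).length = L.length := by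
      intro L hL
      by_cases h : ∃ m ∈ L, emb m ∈ Q
      · right
        obtain ⟨m, hm, hmQ⟩ := h
        rw [List.filter_eq_self.2]
        intro n hn
        rw [decide_eq_true_eq]
        obtain ⟨a, ha, h1⟩ := hTr L hL _ ⟨m, hm, rfl⟩ _ ⟨n, hn, rfl⟩
        rw [hQ] at hmQ ⊢
        obtain ⟨k, hk⟩ := hmQ
        refine ⟨⟨a, hK.le ha⟩ * k, ?_⟩
        show (((⟨a, hK.le ha⟩ : K) * k : K) : G) • emb m0 = _
        rw [Subgroup.coe_mul, mul_smul, ← h1]
        show a • ((k : G) • emb m0) = a • emb m
        rw [← hk]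
        rfl
      · left
        rw [List.length_eq_zero_iff, List.filter_eq_nil_iff]
        intro m hm h1
        exact h ⟨m, hm, of_decide_eq_true h1⟩
    have hQc : Q.ncard = 1 + (Ls.map fun L => (L.filter fun m => decide (emb m ∈ Q)).length).sum := by
      have h1 : Q = {y | ∃ m ∈ (m0 :: Ls.flatten).filter fun m => decide (emb m ∈ Q), emb m = y} := by
        ext y
        constructor
        · intro hy
          have h2 := hQS hy
          rw [hS] at h2
          obtain ⟨m, hm, rfl⟩ := h2
          exact ⟨m, List.mem_filter.2 ⟨hm, by rw [decide_eq_true_eq]; exact hy⟩, rfl⟩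
        · rintro ⟨m, hm, rfl⟩
          exact of_decide_eq_true (List.mem_filter.1 hm).2
      have h3 : ((m0 :: Ls.flatten).filter fun m => decide (emb m ∈ Q)).length =
          1 + (Ls.map fun L => (L.filter fun m => decide (emb m ∈ Q)).length).sum := by
        rw [List.filter_cons_of_pos (by rw [decide_eq_true_eq]; exact hxQ), List.length_cons, List.filter_flatten,
          List.length_flatten, List.map_map, add_comm]
        rfl
      rw [← h3]
      conv_lhs => rw [h1]
      exact ncard_list (hnd.filter _) fun i hi j hj => hinj i (List.mem_filter.1 hi).1 j (List.mem_filter.1 hj).1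
    have hmem := mem_sums (f := List.length) hin
    unfold chkS at hsum
    rw [List.all_eq_true] at hsum
    have h4 := hsum _ hmem
    have h5 := Subgroup.relIndex_mul_index hK.le
    rw [← ncard_orbit_le, ← hQ, hQc, hidx, hcard] at h5
    rw [Bool.or_eq_true, Bool.or_eq_true] at h4
    rcases h4 with (h4 | h4) | h4
    · exfalso
      have h6 := Nat.eq_of_beq_eq_true h4
      rw [h6, add_zero] at hQc
      rw [hQ, ncard_orbit_le] at hQc
      exact hK.not_ge (Subgroup.relIndex_eq_one.1 hQc)
    · have h6 := Nat.eq_of_beq_eq_true h4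
      rw [add_comm, h6] at h5
      rw [← index_eq_one]
      exact Nat.eq_of_mul_eq_mul_left (by omega) (h5.trans (mul_one _).symm)
    · exfalso
      rw [Bool.not_eq_true'] at h4
      have h6 : (1 + (Ls.map List.length).sum) % ((Ls.map fun L =>
        (L.filter fun m => decide (emb m ∈ Q)).length).sum + 1) = 0 := by
        rw [← h5, add_comm 1, Nat.mul_mod_right]
      rw [h6, Nat.beq_refl] at h4
      exact absurd h4 (by decide)

end coatom

end Cfsg.Agent.H865.Sep
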