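import Cfsg.Agent.H865.Sep.Model
import Cfsg.Agent.H865.Sep.Sub
import Cfsg.Agent.FooteOdd.SporMEleven
import Cfsg.Agent.H940.EngData
import Cfsg.Agent.H940.EngLoc

/-!
# Row `M11` of S5906/S5907: five classes of maximal subgroups (helper865)
-/

set_option autoImplicit false

open scoped Pointwise

namespace Cfsg.Agent.H865.Sep.M11

open Subgroup Cfsg Cfsg.Agent.H940.MaxCls
open Cfsg.Agent.SporadicA.GolayBase Cfsg.Agent.SporadicA.GolayPerm
open Cfsg.Agent.SporadicStructure.M24El

theorem card : Nat.card Spor.M11 = 7920 := Cfsg.Agent.FooteOdd.SporMEleven.card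

theorem simple : IsSimpleGroup Spor.M11 := Cfsg.Agent.FooteOdd.SporMEleven.simple

theorem fin' : Finite Spor.M11 := Nat.finite_of_card_ne_zero (by rw [card]; decide)

/-- the mask of the dodecad -/
def ddm : ℕ := 340831

theorem sq_eq : Spor.squareDodecad = fin ddm := by
  rw [Cfsg.Agent.MTwelveType.SylowModel.squareDodecad_eq]
  ext p
  revert p
  decide +kernel

/-- membership in `M12` -/
def okD (P : ℕ) : Bool := ok P && Nat.beq (pimg P ddm) ddm

/-- membership in `M11` -/
def okE (P : ℕ) : Bool := okD P && Nat.beq (papp P 0) 0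

theorem modD : Mod Spor.M12 okD where
  ok := by
    intro P h
    unfold okD at h
    rw [Bool.and_eq_true] at h
    exact h.1
  mem := by
    intro P h
    unfold okD at h
    rw [Bool.and_eq_true] at h
    obtain ⟨h1, h2⟩ := h
    refine Subgroup.mem_inf.2 ⟨(el P).2, ?_⟩
    rw [MulAction.mem_stabilizer_iff, sq_eq, ← coe_smul_finset, el_smul_fin h1, Nat.eq_of_beq_eq_true h2]

theorem modE : Mod Spor.M11 okE where
  ok := by
    intro P h
    unfold okE at h
    rw [Bool.and_eq_true] at h
    exact modD.ok h.1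
  mem := by
    intro P h
    unfold okE at h
    rw [Bool.and_eq_true] at h
    obtain ⟨h1, h3⟩ := h
    refine Subgroup.mem_inf.2 ⟨modD.mem h1, ?_⟩
    rw [MulAction.mem_stabilizer_iff]
    have h4 := el_smul_pt (modD.ok h1) (some 0 : GolayPt)
    have h5 : idx (some 0 : GolayPt) = 0 := by decide
    rw [h5, Nat.eq_of_beq_eq_true h3] at h4
    exact h4

/-- the eleven points -/
def LO : List ℕ := [1, 2, 3, 4, 6, 8, 9, 12, 13, 16, 18]

theorem mem_LO (x : GolayPt) : x ∈ PS LO ↔ x ∈ fin ddm ∧ x ≠ some 0 := by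
  rw [mem_PS]
  revert x
  decide +kernel

theorem inv (g : Spor.M11) (x : GolayPt) (hx : x ∈ PS LO) : g • x ∈ PS LO := by
  rw [mem_LO] at hx ⊢
  obtain ⟨g, hg⟩ := g
  obtain ⟨hg1, hg2⟩ := Subgroup.mem_inf.1 hg
  obtain ⟨hg0, hg1⟩ := Subgroup.mem_inf.1 hg1
  rw [MulAction.mem_stabilizer_iff, sq_eq] at hg1
  rw [MulAction.mem_stabilizer_iff] at hg2
  refine ⟨?_, fun h => hx.2 ?_⟩
  · show g • x ∈ _
    rw [← hg1]
    exact Finset.smul_mem_smul_finset hx.1
  · have h1 : g • x = g • (some 0 : GolayPt) := by rw [hg2]; exact h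
    exact MulAction.injective g h1

theorem nc : (PS LO).ncard = 11 := ncard_PS (by decide) (by decide)

theorem finO : (PS LO).Finite := Set.toFinite _

/-- data -/
def d1 : Dat := ⟨2, [850536115568642406908435487288037408, 234595916867257899668651066224348192],
  [1], [2, 4, 3, 16, 12, 18, 8, 6, 9, 13], [], [(0, 0), (1, 0), (0, 1), (1, 1), (1, 2), (1, 3), (0, 4), (0, 7), (0, 8)]⟩

/-- data -/
def d2 : Dat := ⟨6, [849162669473593511788040638398071872, 228001363311221454468151101670655040],
  [1, 2], [3, 12, 18, 4, 13, 8, 6, 9, 16], [(0, 0)], [(0, 0), (0, 1), (1, 1), (0, 2), (0, 3), (0, 4), (1, 5), (0, 6)]⟩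

/-- data -/
def d3 : Dat := ⟨14, [601885875835129268478585557547549792, 982939420336662894431691245045713984],
  [1, 3, 2], [4, 9, 16, 18, 8, 12, 6, 13], [(0, 0), (1, 0)], [(0, 0), (0, 1), (1, 1), (1, 2), (1, 3), (0, 5), (1, 6)]⟩

/-- data -/
def d4 : Dat := ⟨4126, [610567132226883707190967285251705216, 808017424765127922428093681722525056],
  [1, 12, 4, 3, 2], [6, 9, 18, 16, 13, 8], [(0, 0), (1, 1), (0, 2), (1, 3)], [(1, 0), (0, 1), (1, 1), (1, 2), (0, 3)]⟩

def Pu : ℕ := 858614861664229181014237315002926176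
def Pv : ℕ := 735500604421669808992593446508235808
def Px : ℕ := 735670016051807874675846101006061664
def Py : ℕ := 320124209087643149655013546747408416

theorem c1 : chkP okE LO d1 = true := by decide +kernel
theorem c2 : chkP okE LO d2 = true := by decide +kernel
theorem c3 : chkP okE LO d3 = true := by decide +kernel
theorem c4 : chkP okE LO d4 = true := by decide +kernel

/-- the stabilizer of a set -/
abbrev A (T : ℕ) : Subgroup Spor.M11 := MulAction.stabilizer Spor.M11 (fin T)

/-- the pattern of the data `d` -/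
def PatD (d : Dat) : Prop := Pat (PS LO) (A d.T) (PS d.LS) ∧ PS LO \ PS d.LS = PS d.LC ∧
  (∀ a ∈ A d.T, ∀ x ∈ PS d.LS, a • x ∈ PS d.LS)

theorem p1 : PatD d1 := pat_of_chk modE c1 (by decide) (by decide)
theorem p2 : PatD d2 := pat_of_chk modE c2 (by decide) (by decide)
theorem p3 : PatD d3 := pat_of_chk modE c3 (by decide) (by decide)
theorem p4 : PatD d4 := pat_of_chk modE c4 (by decide) (by decide)

theorem n1 : (PS d1.LS).ncard = 1 := ncard_PS (by decide) (by decide)
theorem n2 : (PS d2.LS).ncard = 2 := ncard_PS (by decide) (by decide)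
theorem n3 : (PS d3.LS).ncard = 3 := ncard_PS (by decide) (by decide)
theorem n4 : (PS d4.LS).ncard = 5 := ncard_PS (by decide) (by decide)

theorem m1 : (PS d1.LC).ncard = 10 := ncard_PS (by decide) (by decide)
theorem m2 : (PS d2.LC).ncard = 9 := ncard_PS (by decide) (by decide)
theorem m3 : (PS d3.LC).ncard = 8 := ncard_PS (by decide) (by decide)
theorem m4 : (PS d4.LC).ncard = 6 := ncard_PS (by decide) (by decide)

theorem dvd_of {d : Dat} {s c : ℕ} (h : PatD d) (hs : (PS d.LS).ncard = s) (hc : (PS d.LC).ncard = c) :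
    Nat.lcm s c ∣ Nat.card (A d.T) := by
  have := fin'
  obtain ⟨h1, h2⟩ := h.1.dvd inv h.2.2
  rw [h.2.1, hc] at h2
  rw [hs] at h1
  exact Nat.lcm_dvd h1 h2

/-- `M11` is transitive -/
theorem tr : Tr (⊤ : Subgroup Spor.M11) (PS LO) :=
  trans_of_pat (g := 1) finO inv p1.1 p2.1 le_top (fun _ _ => mem_top _) (by rw [n1, n2]; decide)
    (by rw [n1, n2, nc]; decide)

theorem ne_top_of {d : Dat} (h : PatD d) : A d.T ≠ ⊤ := by
  intro hA
  obtain ⟨x, hx⟩ := h.1.ne
  obtain ⟨y, hy, hyS⟩ := h.1.ne'
  obtain ⟨a, ha, h1⟩ := tr x (h.1.sub hx) y hy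
  have h2 := h.2.2 a (by rw [hA]; trivial) x hx
  rw [h1] at h2
  exact hyS h2

theorem d1_pt : A d1.T = MulAction.stabilizer Spor.M11 (pt 1) := by
  have h1 : fin d1.T = {pt 1} := by
    ext x
    revert x
    decide +kernel
  ext g
  rw [MulAction.mem_stabilizer_iff, MulAction.mem_stabilizer_iff, h1, Finset.smul_finset_singleton,
    Finset.singleton_inj]

theorem a1 : 720 ∣ Nat.card (A d1.T) := by
  have := fin'
  have h1 : (A d1.T).index = 11 := by
    rw [d1_pt, index_of_tr inv tr (by show idx (pt 1) ∈ LO; decide), nc]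
  have h2 := card_mul_index (A d1.T)
  rw [h1, card] at h2
  have h3 : Nat.card (A d1.T) = 720 := by omega
  rw [h3]

theorem a2 : 18 ∣ Nat.card (A d2.T) := dvd_of p2 n2 m2

theorem a3 : 24 ∣ Nat.card (A d3.T) := dvd_of p3 n3 m3

theorem a4' : 30 ∣ Nat.card (A d4.T) := dvd_of p4 n4 m4

theorem okU : okE Pu = true := by decide +kernel
theorem okV : okE Pv = true := by decide +kernel
theorem okX : okE Px = true := by decide +kernel
theorem okY : okE Py = true := by decide +kernel

theorem a4 : 120 ∣ Nat.card (A d4.T) := by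
  have := fin'
  have h8 : 8 ∣ Nat.card (A d4.T) := by
    have hu2 : ¬ (E modE okU) ^ 2 = 1 := by
      intro h
      have okQ : okE (ppow Pu 2) = true := by decide +kernel
      rw [E_pow' modE okU okQ (Nat.beq_refl _)] at h
      exact E_ne modE okQ 2 (by decide) (by decide +kernel) (by decide +kernel) h
    have hu4 : (E modE okU) ^ 4 = 1 := E_pow modE okU (by decide +kernel)
    have hv2 : E modE okV * E modE okV = 1 := by
      rw [← sq]
      exact E_pow modE okV (by decide +kernel)
    have huvu : E modE okU * E modE okV * E modE okU = E modE okV := by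
      have okR : okE (pcomp Pu Pv) = true := by decide +kernel
      rw [E_mul modE okU okV okR (Nat.beq_refl _), E_mul modE okR okU okV (by decide +kernel)]
    have ho : orderOf (E modE okU) = 4 := by
      have := orderOf_eq_prime_pow (p := 2) (n := 1) (x := E modE okU) (by simpa using hu2) (by simpa using hu4)
      simpa using this
    refine eight_dvd (u := E modE okU) (v := E modE okV) ?_ ?_ ho ?_ hv2 ?_
    · rw [MulAction.mem_stabilizer_iff, E_fin]
      exact congrArg fin (Nat.eq_of_beq_eq_true (by decide +kernel))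
    · rw [MulAction.mem_stabilizer_iff, E_fin]
      exact congrArg fin (Nat.eq_of_beq_eq_true (by decide +kernel))
    · rw [eq_inv_mul_iff_mul_eq, ← mul_assoc]
      exact huvu
    · intro h
      -- `v` would commute with `u`
      obtain ⟨k, hk⟩ := h
      have h1 : E modE okU * E modE okV = E modE okV * E modE okU := by
        show E modE okU * _ = _
        rw [← hk]
        show _ * (E modE okU) ^ k = (E modE okU) ^ k * _
        rw [← zpow_one_add, ← zpow_add_one, add_comm]
      rw [mul_assoc, ← h1, ← mul_assoc] at huvu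
      exact hu2 (by rw [sq]; exact mul_eq_right.1 huvu)
  exact Nat.lcm_dvd h8 a4'

/-- the fifth subgroup: the normalizer of a cyclic group of order 11 -/
noncomputable def A5 : Subgroup Spor.M11 := normalizer ((zpowers (E modE okX) : Subgroup Spor.M11) : Set Spor.M11)

theorem ordX : orderOf (E modE okX) = 11 := by
  have : Fact (Nat.Prime 11) := ⟨by norm_num⟩
  exact orderOf_eq_prime (E_pow modE okX (by decide +kernel))
    (E_ne modE okX 1 (by decide) (by decide +kernel) (by decide +kernel))

theorem ordY : orderOf (E modE okY) = 5 := by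
  have : Fact (Nat.Prime 5) := ⟨by norm_num⟩
  exact orderOf_eq_prime (E_pow modE okY (by decide +kernel))
    (E_ne modE okY 2 (by decide) (by decide +kernel) (by decide +kernel))

theorem a5 : 55 ∣ Nat.card A5 := by
  have := fin'
  have h1 : 11 ∣ Nat.card A5 := by
    rw [← ordX, ← Nat.card_zpowers]
    exact card_dvd_of_le le_normalizer
  have h2 : E modE okY ∈ A5 := by
    have h3 : E modE okY * E modE okX * (E modE okY)⁻¹ = E modE okX ^ 4 := by
      have okR : okE (ppow Px 4) = true := by decide +kernel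
      rw [mul_inv_eq_iff_eq_mul, E_pow' modE okX okR (Nat.beq_refl _)]
      exact E_rel modE okY okX okR okY (by decide +kernel)
    refine mem_normalizer_fintype ?_
    rintro _ ⟨k, rfl⟩
    show E modE okY * (E modE okX) ^ k * (E modE okY)⁻¹ ∈ zpowers (E modE okX)
    rw [← conj_zpow, h3]
    exact zpow_mem (pow_mem (mem_zpowers _) 4) k
  have h3 : 5 ∣ Nat.card A5 := by
    rw [← ordY, ← Nat.card_zpowers]
    exact card_dvd_of_le (zpowers_le.2 h2)
  exact Nat.lcm_dvd h3 h1

theorem a5_ne : A5 ≠ ⊤ := by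
  intro h
  have := simple
  have := fin'
  have hn : (zpowers (E modE okX)).Normal := normalizer_eq_top_iff.1 h
  rcases hn.eq_bot_or_eq_top with h1 | h1
  · have := ordX
    rw [zpowers_eq_bot.1 h1, orderOf_one] at this
    exact absurd this (by decide)
  · have h2 := Nat.card_zpowers (E modE okX)
    rw [h1, ordX, card_top, card] at h2
    exact absurd h2 (by decide)

/-- the row `M11` -/
theorem five' : Sep 5 Spor.M11 := by
  have := simple
  have := fin'
  have hp : Nat.Prime 11 := by norm_num
  have hd : 11 ∣ 7920 := ⟨720, rfl⟩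
  exact sep_five (ne_top_of p1) (ne_top_of p2) (ne_top_of p3) (ne_top_of p4) a5_ne
    (apart_of_pat hp card hd finO inv p1.1 p2.1 nc n1 n2 (by decide) (by decide) a1 a2 (by decide +kernel))
    (apart_of_pat hp card hd finO inv p1.1 p3.1 nc n1 n3 (by decide) (by decide) a1 a3 (by decide +kernel))
    (apart_of_pat hp card hd finO inv p1.1 p4.1 nc n1 n4 (by decide) (by decide) a1 a4 (by decide +kernel))
    (apart_of_lcm hp card hd a1 a5 (by decide +kernel))
    (apart_of_pat hp card hd finO inv p2.1 p3.1 nc n2 n3 (by decide) (by decide) a2 a3 (by decide +kernel))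
    (apart_of_pat hp card hd finO inv p2.1 p4.1 nc n2 n4 (by decide) (by decide) a2 a4 (by decide +kernel))
    (apart_of_lcm hp card hd a2 a5 (by decide +kernel))
    (apart_of_pat hp card hd finO inv p3.1 p4.1 nc n3 n4 (by decide) (by decide) a3 a4 (by decide +kernel))
    (apart_of_lcm hp card hd a3 a5 (by decide +kernel))
    (apart_of_lcm hp card hd a4 a5 (by decide +kernel))

/-- the row `M11` -/
theorem five (_B : Cfsg.Agent.H940.Eng.Base) : Sep 5 Spor.M11 := five'

end Cfsg.Agent.H865.Sep.M11
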