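import Cfsg.Agent.H865.Sep.Sets
import Cfsg.Agent.H865.Sep.MEleven
import Cfsg.Agent.H865.Sep.MTwelveData
import Cfsg.Agent.FooteOdd.SporMTwelve

/-!
# Row `M12` of S5906/S5907: five classes of maximal subgroups (helper865)

The stabilizers of a point and of a 3-set in both orbits of length 12 are maximal; the fifth subgroup is the
stabilizer of a pair.
-/

set_option autoImplicit false
set_option maxRecDepth 100000

open scoped Pointwise

namespace Cfsg.Agent.H865.Sep.M12

open Subgroup Cfsg Cfsg.Agent.H940.MaxCls
open Cfsg.Agent.SporadicA.GolayBase Cfsg.Agent.SporadicA.GolayPerm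
open Cfsg.Agent.H865.Sep.M11 (ddm sq_eq okD modD)

theorem card : Nat.card Spor.M12 = 95040 := Cfsg.Agent.MTwelveType.SylowModel.card_M12

theorem simple : IsSimpleGroup Spor.M12 := Cfsg.Agent.FooteOdd.SporMTwelve.simple

theorem fin' : Finite Spor.M12 := Nat.finite_of_card_ne_zero (by rw [card]; decide)

/-- the complement of the dodecad -/
def ddc : ℕ := 16436384

theorem mem_ddc (x : GolayPt) : x ∈ fin ddc ↔ x ∉ fin ddm := by
  revert x
  decide +kernel

theorem invD : InvD Spor.M12 ddm := by
  rintro ⟨g, hg⟩ x hx
  obtain ⟨hg0, hg1⟩ := Subgroup.mem_inf.1 hg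
  rw [MulAction.mem_stabilizer_iff, sq_eq] at hg1
  show g • x ∈ _
  rw [← hg1]
  exact Finset.smul_mem_smul_finset hx

theorem invE : InvD Spor.M12 ddc := by
  intro g x hx
  rw [mem_ddc] at hx ⊢
  intro h
  apply hx
  have := invD g⁻¹ _ h
  rwa [inv_smul_smul] at this

theorem c1 : IsCoatom (MulAction.stabilizer Spor.M12 (fin 2)) :=
  coatom_of_chk modD fin' (k := 1) invD (g0 := g0) (L0 := LmD) (tr0 := RmD) (gens := g1) (l := s1) (by decide +kernel)
    (by decide +kernel) (by decide +kernel) (by decide +kernel) (by decide +kernel) (by decide +kernel)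
    (by decide +kernel) (by decide +kernel)

theorem c2 : IsCoatom (MulAction.stabilizer Spor.M12 (fin 32)) :=
  coatom_of_chk modD fin' (k := 1) invE (g0 := g0) (L0 := LmE) (tr0 := RmE) (gens := g2) (l := s2) (by decide +kernel)
    (by decide +kernel) (by decide +kernel) (by decide +kernel) (by decide +kernel) (by decide +kernel)
    (by decide +kernel) (by decide +kernel)

theorem c3 : IsCoatom (MulAction.stabilizer Spor.M12 (fin 7)) :=
  coatom_of_chk modD fin' (k := 3) invD (g0 := g0) (L0 := LtD) (tr0 := RtD) (gens := g3) (l := s3) (by decide +kernel)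
    (by decide +kernel) (by decide +kernel) (by decide +kernel) (by decide +kernel) (by decide +kernel)
    (by decide +kernel) (by decide +kernel)

theorem c4 : IsCoatom (MulAction.stabilizer Spor.M12 (fin 1184)) :=
  coatom_of_chk modD fin' (k := 3) invE (g0 := g0) (L0 := LtE) (tr0 := RtE) (gens := g4) (l := s4) (by decide +kernel)
    (by decide +kernel) (by decide +kernel) (by decide +kernel) (by decide +kernel) (by decide +kernel)
    (by decide +kernel) (by decide +kernel)

theorem m1 : fin 2 ∈ SK 1 ddm := ⟨by decide +kernel, by decide +kernel⟩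
theorem m2 : fin 32 ∈ SK 1 ddc := ⟨by decide +kernel, by decide +kernel⟩
theorem m3 : fin 7 ∈ SK 3 ddm := ⟨by decide +kernel, by decide +kernel⟩
theorem m4 : fin 1184 ∈ SK 3 ddc := ⟨by decide +kernel, by decide +kernel⟩

theorem c5 : MulAction.stabilizer Spor.M12 (fin 3) ≠ ⊤ := by
  intro h
  have h1 : ∀ L ∈ pD2.map Prod.fst, Tr (MulAction.stabilizer Spor.M12 (fin 32)) (PS L) :=
    trs_of_chk modD (gens := g2) (by decide +kernel)
  obtain ⟨b, -, h2⟩ := moves h1 (by decide +kernel) (by decide +kernel) (X := fin 3) (by decide +kernel)
    (by decide +kernel)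
  have h3 : b ∈ MulAction.stabilizer Spor.M12 (fin 3) := by rw [h]; trivial
  exact h2 h3

/-- the row `M12` -/
theorem five' : Sep 5 Spor.M12 :=
  sep_five c1.1 c2.1 c3.1 c4.1 c5
    (apart_of_moves modD invD c1 m1 (gens := g2) (l := pD2) (by decide +kernel) (by decide +kernel) (by decide +kernel)
      (by decide +kernel) (by decide +kernel))
    (apart_of_moves modD invD c1 m1 (gens := g3) (l := pD3) (by decide +kernel) (by decide +kernel) (by decide +kernel)
      (by decide +kernel) (by decide +kernel))
    (apart_of_moves modD invD c1 m1 (gens := g4) (l := pD4) (by decide +kernel) (by decide +kernel) (by decide +kernel)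
      (by decide +kernel) (by decide +kernel))
    (apart_of_moves modD invD c1 m1 (gens := g5) (l := pD5) (by decide +kernel) (by decide +kernel) (by decide +kernel)
      (by decide +kernel) (by decide +kernel))
    (apart_of_moves modD invE c2 m2 (gens := g3) (l := pE3) (by decide +kernel) (by decide +kernel) (by decide +kernel)
      (by decide +kernel) (by decide +kernel))
    (apart_of_moves modD invE c2 m2 (gens := g4) (l := pE4) (by decide +kernel) (by decide +kernel) (by decide +kernel)
      (by decide +kernel) (by decide +kernel))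
    (apart_of_moves modD invE c2 m2 (gens := g5) (l := pE5) (by decide +kernel) (by decide +kernel) (by decide +kernel)
      (by decide +kernel) (by decide +kernel))
    (apart_of_moves modD invD c3 m3 (gens := g4) (l := pD4) (by decide +kernel) (by decide +kernel) (by decide +kernel)
      (by decide +kernel) (by decide +kernel))
    (apart_of_moves modD invD c3 m3 (gens := g5) (l := pD5) (by decide +kernel) (by decide +kernel) (by decide +kernel)
      (by decide +kernel) (by decide +kernel))
    (apart_of_moves modD invE c4 m4 (gens := g5) (l := pE5) (by decide +kernel) (by decide +kernel) (by decide +kernel)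
      (by decide +kernel) (by decide +kernel))

/-- the row `M12` -/
theorem five (_B : Cfsg.Agent.H940.Eng.Base) : Sep 5 Spor.M12 := five'

end Cfsg.Agent.H865.Sep.M12
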