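import Cfsg.Agent.H865.Sep.Base
import Cfsg.Agent.SporadicStructure.M11InvPerms

/-!
# Packed permutations in `M11` and `M12`, checks of orbits
-/

set_option autoImplicit false

open scoped Pointwise

namespace Cfsg.Agent.H865.Sep

open Subgroup Cfsg Cfsg.Agent.H940.MaxCls
open Cfsg.Agent.SporadicA.GolayBase Cfsg.Agent.SporadicA.GolayPerm
open Cfsg.Agent.SporadicStructure.M24El

/-- a Boolean test of membership in `G` -/
structure Mod (G : Subgroup (Equiv.Perm GolayPt)) (okG : ℕ → Bool) : Prop where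
  ok : ∀ {P : ℕ}, okG P = true → ok P = true
  mem : ∀ {P : ℕ}, okG P = true → ((el P : M24) : Equiv.Perm GolayPt) ∈ G

variable {G : Subgroup (Equiv.Perm GolayPt)} {okG : ℕ → Bool} (M : Mod G okG)

/-- the element -/
noncomputable def E {P : ℕ} (h : okG P = true) : G := ⟨_, M.mem h⟩

theorem E_fin {P : ℕ} (h : okG P = true) (m : ℕ) : E M h • fin m = fin (pimg P m) :=
  el_smul_fin (M.ok h) m

theorem E_pt {P : ℕ} (h : okG P = true) {i : ℕ} (hi : i < 24) : E M h • pt i = pt (papp P i) := by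
  have h1 := el_smul_pt (M.ok h) (pt i)
  rw [idx_pt hi] at h1
  exact h1

theorem E_rel {P Q R S : ℕ} (hP : okG P = true) (hQ : okG Q = true) (hR : okG R = true) (hS : okG S = true)
    (h : Nat.beq (pcomp P Q) (pcomp R S) = true) : E M hP * E M hQ = E M hR * E M hS := by
  have h1 : el P * el Q = el R * el S := by
    rw [← el_pcomp (M.ok hP) (M.ok hQ), ← el_pcomp (M.ok hR) (M.ok hS), Nat.eq_of_beq_eq_true h]
  exact Subtype.ext (congrArg (fun x : M24 => (x : Equiv.Perm GolayPt)) h1)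

theorem E_mul {P Q R : ℕ} (hP : okG P = true) (hQ : okG Q = true) (hR : okG R = true)
    (h : Nat.beq (pcomp P Q) R = true) : E M hP * E M hQ = E M hR := by
  have h1 : el P * el Q = el R := by
    rw [← el_pcomp (M.ok hP) (M.ok hQ), Nat.eq_of_beq_eq_true h]
  exact Subtype.ext (congrArg (fun x : M24 => (x : Equiv.Perm GolayPt)) h1)

theorem E_one {P : ℕ} (h : okG P = true) (h1 : Nat.beq P idP = true) : E M h = 1 := by
  have h2 : el P = 1 := by rw [Nat.eq_of_beq_eq_true h1, el_idP]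
  exact Subtype.ext (congrArg (fun x : M24 => (x : Equiv.Perm GolayPt)) h2)

/-- the power of a packed permutation -/
def ppow (P : ℕ) : ℕ → ℕ
  | 0 => idP
  | n + 1 => pcomp (ppow P n) P

theorem E_pow_aux {P : ℕ} (hP : ok P = true) (n : ℕ) : ok (ppow P n) = true ∧ el (ppow P n) = el P ^ n := by
  induction n with
  | zero => exact ⟨ok_idP, by rw [pow_zero]; exact el_idP⟩
  | succ n ih =>
    refine ⟨ok_pcomp ih.1 hP, ?_⟩
    show el (pcomp (ppow P n) P) = _
    rw [el_pcomp ih.1 hP, ih.2, pow_succ]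

theorem E_pow {P n : ℕ} (h : okG P = true) (h1 : Nat.beq (ppow P n) idP = true) : E M h ^ n = 1 := by
  have h2 : el P ^ n = 1 := by
    rw [← (E_pow_aux (M.ok h) n).2, Nat.eq_of_beq_eq_true h1, el_idP]
  exact Subtype.ext (congrArg (fun x : M24 => (x : Equiv.Perm GolayPt)) h2)

theorem E_pow' {P Q n : ℕ} (h : okG P = true) (hQ : okG Q = true) (h1 : Nat.beq (ppow P n) Q = true) :
    E M h ^ n = E M hQ := by
  have h2 : el P ^ n = el Q := by
    rw [← (E_pow_aux (M.ok h) n).2, Nat.eq_of_beq_eq_true h1]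
  exact Subtype.ext (congrArg (fun x : M24 => (x : Equiv.Perm GolayPt)) h2)

theorem E_ne {P : ℕ} (h : okG P = true) (i : ℕ) (hi : i < 24) (h1 : Nat.beq (papp P i) i = false)
    (h2 : papp P i < 24) : E M h ≠ 1 := by
  intro h3
  have h4 := E_pt M h hi
  rw [h3, one_smul] at h4
  have h5 := congrArg idx h4
  rw [idx_pt hi, idx_pt h2] at h5
  rw [← h5, Nat.beq_refl] at h1
  exact absurd h1 (by decide)

/-- the set of the points of a list -/
def PS (L : List ℕ) : Set GolayPt := {x | idx x ∈ L}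

theorem PS_eq {L : List ℕ} (h : L.all (fun i => Nat.blt i 24) = true) : PS L = {x | ∃ m ∈ L, pt m = x} := by
  rw [List.all_eq_true] at h
  ext x
  constructor
  · intro hx
    exact ⟨idx x, hx, pt_idx x⟩
  · rintro ⟨m, hm, rfl⟩
    show idx (pt m) ∈ L
    rw [idx_pt (Nat.blt_eq.mp (h m hm))]
    exact hm

theorem ncard_PS {L : List ℕ} (h : L.all (fun i => Nat.blt i 24) = true) (hn : L.Nodup) : (PS L).ncard = L.length := by
  rw [PS_eq h]
  rw [List.all_eq_true] at h
  apply ncard_list hn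
  intro i hi j hj hij
  have h1 := congrArg idx hij
  rwa [idx_pt (Nat.blt_eq.mp (h i hi)), idx_pt (Nat.blt_eq.mp (h j hj))] at h1

/-- the check of transitivity on points -/
def chkT (okG : ℕ → Bool) (T : ℕ) (gens L : List ℕ) (tr : List (ℕ × ℕ)) : Bool :=
  (gens.all fun P => okG P && Nat.beq (pimg P T) T) && (L.all fun i => Nat.blt i 24) && treeB papp gens L tr

include M in
theorem tr_of_chk {T : ℕ} {gens L : List ℕ} {tr : List (ℕ × ℕ)} (h : chkT okG T gens L tr = true) :
    Tr (MulAction.stabilizer G (fin T)) (PS L) := by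
  unfold chkT at h
  rw [Bool.and_eq_true, Bool.and_eq_true, List.all_eq_true] at h
  obtain ⟨⟨h1, h2⟩, h3⟩ := h
  rw [PS_eq h2]
  refine tr_of_tree (act := papp) (fun P hP => ?_) h3
  have h4 := h1 P hP
  rw [Bool.and_eq_true] at h4
  refine ⟨E M h4.1, ?_, fun m hm => E_pt M h4.1 (Nat.blt_eq.mp (List.all_eq_true.1 h2 m hm))⟩
  rw [MulAction.mem_stabilizer_iff, E_fin, Nat.eq_of_beq_eq_true h4.2]

/-- the check of transitivity on sets -/
def chkM (okG : ℕ → Bool) (T : ℕ) (gens L : List ℕ) (tr : List (ℕ × ℕ)) : Bool :=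
  (gens.all fun P => okG P && Nat.beq (pimg P T) T) && treeB pimg gens L tr

include M in
theorem tr_of_chkM {T : ℕ} {gens L : List ℕ} {tr : List (ℕ × ℕ)} (h : chkM okG T gens L tr = true) :
    Tr (MulAction.stabilizer G (fin T)) {x | ∃ m ∈ L, fin m = x} := by
  unfold chkM at h
  rw [Bool.and_eq_true, List.all_eq_true] at h
  obtain ⟨h1, h3⟩ := h
  refine tr_of_tree (act := pimg) (fun P hP => ?_) h3
  have h4 := h1 P hP
  rw [Bool.and_eq_true] at h4
  refine ⟨E M h4.1, ?_, fun m _ => E_fin M h4.1 m⟩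
  rw [MulAction.mem_stabilizer_iff, E_fin, Nat.eq_of_beq_eq_true h4.2]

/-- data of a pattern -/
structure Dat where
  T : ℕ
  gens : List ℕ
  LS : List ℕ
  LC : List ℕ
  tS : List (ℕ × ℕ)
  tC : List (ℕ × ℕ)

/-- the check of a pattern -/
def chkP (okG : ℕ → Bool) (LO : List ℕ) (d : Dat) : Bool :=
  chkT okG d.T d.gens d.LS d.tS && chkT okG d.T d.gens d.LC d.tC && (List.range 24).all fun i =>
    (Bool.xor (LO.elem i) (d.LS.elem i || d.LC.elem i) == false) && !(d.LS.elem i && d.LC.elem i) &&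
      (Bool.xor (d.LS.elem i) (d.T.testBit i) == false)

theorem mem_PS {L : List ℕ} {x : GolayPt} : x ∈ PS L ↔ L.elem (idx x) = true := by
  rw [List.elem_iff]
  rfl

include M in
theorem pat_of_chk {LO : List ℕ} {d : Dat} (h : chkP okG LO d = true) (h1 : d.LS ≠ []) (h2 : d.LC ≠ []) :
    Pat (PS LO) (MulAction.stabilizer G (fin d.T)) (PS d.LS) ∧ PS LO \ PS d.LS = PS d.LC ∧
      (∀ a ∈ MulAction.stabilizer G (fin d.T), ∀ x ∈ PS d.LS, a • x ∈ PS d.LS) := by
  unfold chkP at h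
  rw [Bool.and_eq_true, Bool.and_eq_true, List.all_eq_true] at h
  obtain ⟨⟨h3, h4⟩, h5⟩ := h
  have h6 : ∀ x : GolayPt, LO.elem (idx x) = (d.LS.elem (idx x) || d.LC.elem (idx x)) ∧
      ¬ (d.LS.elem (idx x) = true ∧ d.LC.elem (idx x) = true) ∧ d.LS.elem (idx x) = d.T.testBit (idx x) := by
    intro x
    have h7 := h5 (idx x) (List.mem_range.2 (idx_lt x))
    rw [Bool.and_eq_true, Bool.and_eq_true] at h7
    obtain ⟨⟨h8, h9⟩, h10⟩ := h7
    refine ⟨?_, ?_, ?_⟩
    · revert h8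
      cases LO.elem (idx x) <;> cases (d.LS.elem (idx x) || d.LC.elem (idx x)) <;> decide
    · rw [Bool.not_eq_true', Bool.and_eq_false_iff] at h9
      rintro ⟨h11, h12⟩
      rw [h11, h12] at h9
      simp at h9
    · revert h10
      cases d.LS.elem (idx x) <;> cases d.T.testBit (idx x) <;> decide
  have h7 : PS LO \ PS d.LS = PS d.LC := by
    ext x
    obtain ⟨e1, e2, -⟩ := h6 x
    rw [Set.mem_sdiff, mem_PS, mem_PS, mem_PS, e1]
    revert e2
    cases d.LS.elem (idx x) <;> cases d.LC.elem (idx x) <;> simp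
  have hsub : PS d.LS ⊆ PS LO := by
    intro x hx
    rw [mem_PS] at hx ⊢
    rw [(h6 x).1, hx]
    rfl
  have hne : ∀ {T : ℕ} {gens L : List ℕ} {tr : List (ℕ × ℕ)}, chkT okG T gens L tr = true → L ≠ [] →
      (PS L).Nonempty := by
    intro T gens L tr h hL
    unfold chkT at h
    rw [Bool.and_eq_true, Bool.and_eq_true] at h
    obtain ⟨m, hm⟩ := List.exists_mem_of_ne_nil L hL
    rw [PS_eq h.1.2]
    exact ⟨pt m, m, hm, rfl⟩
  refine ⟨⟨hsub, hne h3 h1, ?_, tr_of_chk M h3, ?_⟩, h7, ?_⟩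
  · rw [h7]
    exact hne h4 h2
  · rw [h7]
    exact tr_of_chk M h4
  · intro a ha x hx
    have e : ∀ y : GolayPt, y ∈ PS d.LS ↔ y ∈ fin d.T := by
      intro y
      rw [mem_PS, (h6 y).2.2, mem_fin]
    rw [e] at hx ⊢
    rw [MulAction.mem_stabilizer_iff] at ha
    rw [← ha]
    exact Finset.smul_mem_smul_finset hx

end Cfsg.Agent.H865.Sep
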