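import Cfsg.Agent.H865.Sep.Model
import Cfsg.Agent.H865.Sep.Sub

/-!
# Stabilizers of sets in `M12`: maximality and apartness by orbits on points and sets
-/

set_option autoImplicit false

open scoped Pointwise

namespace Cfsg.Agent.H865.Sep

open Subgroup Cfsg Cfsg.Agent.H940.MaxCls
open Cfsg.Agent.SporadicA.GolayBase Cfsg.Agent.SporadicA.GolayPerm

variable {G : Subgroup (Equiv.Perm GolayPt)} {okG : ℕ → Bool} (M : Mod G okG)

/-- several trees of points -/
def chkTs (okG : ℕ → Bool) (T : ℕ) (gens : List ℕ) (l : List (List ℕ × List (ℕ × ℕ))) : Bool :=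
  l.all fun x => chkT okG T gens x.1 x.2

/-- several trees of sets -/
def chkMs (okG : ℕ → Bool) (T : ℕ) (gens : List ℕ) (l : List (List ℕ × List (ℕ × ℕ))) : Bool :=
  l.all fun x => chkM okG T gens x.1 x.2

include M in
theorem trs_of_chk {T : ℕ} {gens : List ℕ} {l : List (List ℕ × List (ℕ × ℕ))} (h : chkTs okG T gens l = true) :
    ∀ L ∈ l.map Prod.fst, Tr (MulAction.stabilizer G (fin T)) (PS L) := by
  intro L hL
  obtain ⟨x, hx, rfl⟩ := List.mem_map.1 hL
  exact tr_of_chk M (List.all_eq_true.1 h x hx)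

include M in
theorem trs_of_chkM {T : ℕ} {gens : List ℕ} {l : List (List ℕ × List (ℕ × ℕ))} (h : chkMs okG T gens l = true) :
    ∀ L ∈ l.map Prod.fst, Tr (MulAction.stabilizer G (fin T)) {x | ∃ m ∈ L, fin m = x} := by
  intro L hL
  obtain ⟨x, hx, rfl⟩ := List.mem_map.1 hL
  exact tr_of_chkM M (List.all_eq_true.1 h x hx)

/-- a subgroup fixes no set of the wrong size -/
theorem moves {B : Subgroup G} {Ls : List (List ℕ)} (h : ∀ L ∈ Ls, Tr B (PS L)) (hnd : Ls.flatten.Nodup)
    (hlt : ∀ m ∈ Ls.flatten, m < 24) {X : Finset GolayPt} (hX : ∀ x ∈ X, idx x ∈ Ls.flatten)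
    (hs : X.card ∉ sums (Ls.map List.length)) : ∃ b ∈ B, b • X ≠ X := by
  classical
  by_contra hc
  push Not at hc
  apply hs
  have h1 : ∀ L ∈ Ls, (L.filter fun m => decide (pt m ∈ X)).length = 0 ∨
      (L.filter fun m => decide (pt m ∈ X)).length = L.length := by
    intro L hL
    have hlt' : ∀ m ∈ L, m < 24 := fun m hm => hlt m (List.mem_flatten.2 ⟨L, hL, hm⟩)
    by_cases h1 : ∃ m ∈ L, pt m ∈ X
    · right
      obtain ⟨m, hm, hmX⟩ := h1
      rw [List.filter_eq_self.2]
      intro n hn
      rw [decide_eq_true_eq]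
      obtain ⟨b, hb, h2⟩ := h L hL (pt m) (by show idx (pt m) ∈ L; rw [idx_pt (hlt' m hm)]; exact hm) (pt n)
        (by show idx (pt n) ∈ L; rw [idx_pt (hlt' n hn)]; exact hn)
      rw [← h2, ← hc b hb]
      exact Finset.smul_mem_smul_finset hmX
    · left
      rw [List.length_eq_zero_iff, List.filter_eq_nil_iff]
      intro m hm h2
      exact h1 ⟨m, hm, of_decide_eq_true h2⟩
  have h2 := mem_sums (f := List.length) h1
  have h3 : X.card = (Ls.map fun L => (L.filter fun m => decide (pt m ∈ X)).length).sum := by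
    have h4 : (Ls.flatten.filter fun m => decide (pt m ∈ X)).length =
        (Ls.map fun L => (L.filter fun m => decide (pt m ∈ X)).length).sum := by
      rw [List.filter_flatten, List.length_flatten, List.map_map]
      rfl
    rw [← h4]
    have h5 : X = (Ls.flatten.filter fun m => decide (pt m ∈ X)).toFinset.image pt := by
      ext x
      rw [Finset.mem_image]
      constructor
      · intro hx
        exact ⟨idx x, by rw [List.mem_toFinset, List.mem_filter, decide_eq_true_eq, pt_idx]; exact ⟨hX x hx, hx⟩, pt_idx x⟩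
      · rintro ⟨m, hm, rfl⟩
        rw [List.mem_toFinset, List.mem_filter, decide_eq_true_eq] at hm
        exact hm.2
    conv_lhs => rw [h5]
    rw [Finset.card_image_of_injOn, List.toFinset_card_of_nodup (hnd.filter _)]
    intro i hi j hj hij
    have hi' := (List.mem_filter.1 (List.mem_toFinset.1 hi)).1
    have hj' := (List.mem_filter.1 (List.mem_toFinset.1 hj)).1
    have h6 := congrArg idx hij
    rwa [idx_pt (hlt i hi'), idx_pt (hlt j hj')] at h6
  rw [h3]
  exact h2

/-- the `k`-subsets of `fin D` -/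
def SK (k D : ℕ) : Set (Finset GolayPt) := {X | X ⊆ fin D ∧ X.card = k}

/-- the check that `L` lists the `k`-subsets of `fin D` -/
def chkL (k D : ℕ) (L : List ℕ) : Bool :=
  Nat.beq L.length (Nat.choose (popcount D) k) && L.all fun m =>
    Nat.blt m 16777216 && Nat.beq (m &&& D) m && Nat.beq (popcount m) k

theorem SK_inj {k D : ℕ} {L : List ℕ} (h : chkL k D L = true) :
    ∀ i ∈ L, ∀ j ∈ L, fin i = fin j → i = j := by
  unfold chkL at h
  rw [Bool.and_eq_true, List.all_eq_true] at h
  have h1 : ∀ i ∈ L, i < 2 ^ 24 := by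
    intro i hi
    have h2 := h.2 i hi
    rw [Bool.and_eq_true, Bool.and_eq_true] at h2
    exact Nat.blt_eq.mp h2.1.1
  intro i hi j hj hij
  exact fin_injective (h1 i hi) (h1 j hj) hij

theorem SK_eq {k D : ℕ} {L : List ℕ} (h : chkL k D L = true) (hnd : L.Nodup) :
    SK k D = {y | ∃ m ∈ L, fin m = y} := by
  classical
  have hinj := SK_inj h
  unfold chkL at h
  rw [Bool.and_eq_true, List.all_eq_true] at h
  obtain ⟨h1, h2⟩ := h
  have h3 : L.toFinset.image fin = Finset.powersetCard k (fin D) := by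
    apply Finset.eq_of_subset_of_card_le
    · intro y hy
      obtain ⟨m, hm, rfl⟩ := Finset.mem_image.1 hy
      have h4 := h2 m (List.mem_toFinset.1 hm)
      rw [Bool.and_eq_true, Bool.and_eq_true] at h4
      obtain ⟨⟨-, h5⟩, h6⟩ := h4
      rw [Finset.mem_powersetCard, card_fin, Nat.eq_of_beq_eq_true h6]
      refine ⟨?_, rfl⟩
      rw [← Nat.eq_of_beq_eq_true h5, fin_and]
      exact Finset.inter_subset_right
    · rw [Finset.card_powersetCard, card_fin, Finset.card_image_of_injOn, List.toFinset_card_of_nodup hnd,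
        Nat.eq_of_beq_eq_true h1]
      intro i hi j hj hij
      exact hinj i (List.mem_toFinset.1 hi) j (List.mem_toFinset.1 hj) hij
  ext y
  have h4 : y ∈ SK k D ↔ y ∈ L.toFinset.image fin := by
    rw [h3, Finset.mem_powersetCard]
    rfl
  rw [h4, Finset.mem_image]
  simp only [List.mem_toFinset]
  exact Iff.rfl

/-- `fin D` is invariant -/
def InvD (G : Subgroup (Equiv.Perm GolayPt)) (D : ℕ) : Prop := ∀ (g : G) (x : GolayPt), x ∈ fin D → g • x ∈ fin D

theorem InvD.sk {D k : ℕ} (h : InvD G D) (g : G) (X : Finset GolayPt) (hX : X ∈ SK k D) : g • X ∈ SK k D := by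
  refine ⟨fun y hy => ?_, ?_⟩
  · obtain ⟨x, hx, rfl⟩ := Finset.mem_smul_finset.1 hy
    exact h g x (hX.1 hx)
  · rw [Finset.card_smul_finset]
    exact hX.2

include M in
/-- maximality of a set stabilizer -/
theorem coatom_of_chk (hfin : Finite G) {D k T : ℕ} (hD : InvD G D) {g0 gens L0 : List ℕ} {tr0 : List (ℕ × ℕ)}
    {l : List (List ℕ × List (ℕ × ℕ))} (h0 : chkM okG 0 g0 L0 tr0 = true) (hL0 : chkL k D L0 = true)
    (hnd0 : L0.Nodup) (h1 : chkMs okG T gens l = true) (hL : chkL k D (T :: (l.map Prod.fst).flatten) = true)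
    (hnd : (T :: (l.map Prod.fst).flatten).Nodup)
    (hsum : chkS (1 + ((l.map Prod.fst).map List.length).sum) ((l.map Prod.fst).map List.length) = true)
    (hone : Nat.beq ((l.map Prod.fst).map List.length).sum 0 = false) :
    IsCoatom (MulAction.stabilizer G (fin T)) := by
  refine coatom_of_suborbits (S := SK k D) (emb := fin) (fun g X hX => hD.sk g X hX) ?_ (SK_eq hL hnd) hnd (SK_inj hL)
    (trs_of_chkM M h1) hsum (fun h => ?_)
  · rw [SK_eq hL0 hnd0]
    exact (tr_of_chkM M h0).mono le_top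
  · rw [h, Nat.beq_refl] at hone
    exact absurd hone (by decide)

include M in
/-- apartness from a maximal set stabilizer -/
theorem apart_of_moves {D k T T' : ℕ} (hD : InvD G D) (hA : IsCoatom (MulAction.stabilizer G (fin T)))
    (hT : fin T ∈ SK k D) {gens : List ℕ} {l : List (List ℕ × List (ℕ × ℕ))} (h : chkTs okG T' gens l = true)
    (hnd : (l.map Prod.fst).flatten.Nodup) (hlt : (l.map Prod.fst).flatten.all (fun m => Nat.blt m 24) = true)
    (hcov : (List.range 24).all (fun i => !(D.testBit i) || (l.map Prod.fst).flatten.elem i) = true)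
    (hs : (sums ((l.map Prod.fst).map List.length)).all (fun s => !(Nat.beq s k)) = true) :
    Apart (MulAction.stabilizer G (fin T)) (MulAction.stabilizer G (fin T')) := by
  apply apart_of_coatom hA
  intro g
  have hX := hD.sk g⁻¹ _ hT
  have hk : (g⁻¹ • fin T).card ∉ sums ((l.map Prod.fst).map List.length) := by
    intro h1
    have h2 := List.all_eq_true.1 hs _ h1
    rw [hX.2, Nat.beq_refl] at h2
    exact absurd h2 (by decide)
  have hsub : ∀ x ∈ g⁻¹ • fin T, idx x ∈ (l.map Prod.fst).flatten := by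
    intro x hx
    have h3 := mem_fin.1 (hX.1 hx)
    have h4 := List.all_eq_true.1 hcov (idx x) (List.mem_range.2 (idx_lt x))
    rw [h3] at h4
    exact List.elem_iff.1 (by simpa using h4)
  obtain ⟨b, hb, h1⟩ := moves (trs_of_chk M h) hnd (fun m hm => Nat.blt_eq.mp (List.all_eq_true.1 hlt m hm))
    (X := g⁻¹ • fin T) hsub hk
  refine ⟨b, hb, fun h2 => h1 ?_⟩
  rw [MulAction.mem_stabilizer_iff, mul_smul, mul_smul] at h2
  rw [eq_inv_smul_iff]
  exact h2

end Cfsg.Agent.H865.Sep
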